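import Mathlib.RingTheory.MvPolynomial.Ideal
import Mathlib.Algebra.MvPolynomial.CommRing
import Mathlib.Algebra.Polynomial.Coeff
import Mathlib.RingTheory.Ideal.Maps
import Mathlib.Tactic.LinearCombination

/-!
# The discriminant of a quadratic in `z` at a point
-/

universe u

open MvPolynomial

namespace Groth.Agent.Prym5.QuadDiscr

variable {K : Type u} [Field K]

theorem mem_iff {σ : Type*} (p : MvPolynomial σ K) :
    p ∈ Ideal.span (Set.range (X : σ → MvPolynomial σ K)) ↔ constantCoeff p = 0 := by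
  have := mem_pow_idealOfVars_iff' 1 p
  rw [pow_one] at this
  refine this.trans ⟨fun h => h 0 (by simp), fun h x hx => ?_⟩
  rw [Nat.lt_one_iff, Finsupp.degree_eq_zero_iff] at hx
  rw [hx]; exact h

local notation "n₂" => Ideal.span (Set.range (X : Fin 2 → MvPolynomial (Fin 2) K))
local notation "m₃" => Ideal.span (Set.range (X : Fin 3 → MvPolynomial (Fin 3) K))
local notation "ι" => (rename (Fin.castSucc : Fin 2 → Fin 3) : MvPolynomial (Fin 2) K →ₐ[K] MvPolynomial (Fin 3) K)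

/-- `h = G₂ z² + 2 G₃ z + G₄` -/
noncomputable def quad (G₂ G₃ G₄ : MvPolynomial (Fin 2) K) : MvPolynomial (Fin 3) K :=
  ι G₂ * X (2 : Fin 3) ^ 2 + 2 * ι G₃ * X (2 : Fin 3) + ι G₄

theorem map_le : Ideal.map (ι).toRingHom n₂ ≤ m₃ := by
  rw [Ideal.map_span, Ideal.span_le]
  rintro _ ⟨_, ⟨i, rfl⟩, rfl⟩
  exact Ideal.subset_span ⟨Fin.castSucc i, (rename_X _ i).symm⟩

theorem ι_mem {k : ℕ} {p : MvPolynomial (Fin 2) K} (h : p ∈ n₂ ^ k) : ι p ∈ m₃ ^ k := by
  have := Ideal.mem_map_of_mem (ι).toRingHom h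
  rw [Ideal.map_pow] at this
  exact Ideal.pow_right_mono map_le k this

theorem X_mem : (X (2 : Fin 3) : MvPolynomial (Fin 3) K) ∈ m₃ := Ideal.subset_span ⟨2, rfl⟩

/-- membership of `h` in `m²` -/
theorem quad_mem_sq_iff (h2 : (2 : K) ≠ 0) (G₂ G₃ G₄ : MvPolynomial (Fin 2) K) :
    quad G₂ G₃ G₄ ∈ m₃ ^ 2 ↔ G₃ ∈ n₂ ∧ G₄ ∈ n₂ ^ 2 := by
  constructor
  · intro h
    refine ⟨?_, ?_⟩
    · let ψ : MvPolynomial (Fin 3) K →ₐ[K] Polynomial K := aeval ![0, 0, Polynomial.X]
      have hψ : ∀ p, ψ (ι p) = Polynomial.C (constantCoeff p) := by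
        intro p
        induction p using MvPolynomial.induction_on with
        | C a => simp [ψ]
        | add p q hp hq => simp [map_add, hp, hq]
        | mul_X p i hp => fin_cases i <;> simp [map_mul, ψ, rename_X, Fin.castSucc]
      have hle : Ideal.map ψ.toRingHom m₃ ≤ Ideal.span {Polynomial.X} := by
        rw [Ideal.map_span, Ideal.span_le]
        rintro _ ⟨_, ⟨i, rfl⟩, rfl⟩
        fin_cases i <;> simp [ψ, Ideal.mem_span_singleton]
      have h' := Ideal.mem_map_of_mem ψ.toRingHom h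
      rw [Ideal.map_pow] at h'
      have h'' := Ideal.pow_right_mono hle 2 h'
      rw [Ideal.span_singleton_pow, Ideal.mem_span_singleton, Polynomial.X_pow_dvd_iff] at h''
      have h1 := h'' 1 one_lt_two
      have hz : ψ (X 2) = Polynomial.X := by simp [ψ]
      have e : ψ.toRingHom (quad G₂ G₃ G₄) = Polynomial.C (constantCoeff G₂) * Polynomial.X ^ 2 +
          Polynomial.C (2 * constantCoeff G₃) * Polynomial.X + Polynomial.C (constantCoeff G₄) := by
        show ψ (quad G₂ G₃ G₄) = _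
        simp only [quad, map_add, map_mul, map_pow, map_ofNat, hψ, hz]
      rw [e] at h1
      simp [h2] at h1
      exact (mem_iff G₃).2 h1
    · let π : MvPolynomial (Fin 3) K →ₐ[K] MvPolynomial (Fin 2) K := aeval ![X 0, X 1, 0]
      have hπ : ∀ p, π (ι p) = p := by
        intro p
        induction p using MvPolynomial.induction_on with
        | C a => simp [π]
        | add p q hp hq => simp [map_add, hp, hq]
        | mul_X p i hp => rw [map_mul, map_mul, hp]; fin_cases i <;> simp [π, rename_X]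
      have hle : Ideal.map π.toRingHom m₃ ≤ n₂ := by
        rw [Ideal.map_span, Ideal.span_le]
        rintro _ ⟨_, ⟨i, rfl⟩, rfl⟩
        fin_cases i
        · exact Ideal.subset_span ⟨0, by simp [π]⟩
        · exact Ideal.subset_span ⟨1, by simp [π]⟩
        · simp [π]
      have h' := Ideal.mem_map_of_mem π.toRingHom h
      rw [Ideal.map_pow] at h'
      have h'' := Ideal.pow_right_mono hle 2 h'
      have e : π.toRingHom (quad G₂ G₃ G₄) = G₄ := by
        show π (quad G₂ G₃ G₄) = _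
        rw [quad, map_add, map_add, map_mul, map_mul, map_pow, show π (X 2) = 0 by simp [π], hπ G₄]
        simp
      rwa [e] at h''
  · rintro ⟨h3, h4⟩
    refine add_mem (add_mem ?_ ?_) (ι_mem h4)
    · exact Ideal.mul_mem_left _ _ (Ideal.pow_mem_pow X_mem 2)
    · rw [mul_assoc, pow_two]
      refine Ideal.mul_mem_left _ _ (Ideal.mul_mem_mul ?_ X_mem)
      simpa using ι_mem (k := 1) (by rwa [pow_one])

theorem discr_mem_sq {G₂ G₃ G₄ : MvPolynomial (Fin 2) K} (h3 : G₃ ∈ n₂) (h4 : G₄ ∈ n₂ ^ 2) :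
    G₃ ^ 2 - G₂ * G₄ ∈ n₂ ^ 2 :=
  sub_mem (Ideal.pow_mem_pow h3 2) (Ideal.mul_mem_left _ _ h4)

theorem discr_mem_sq_iff (h2 : (2 : K) ≠ 0) (G₂ G₃ G₄ : MvPolynomial (Fin 2) K)
    (hQ : quad G₂ G₃ G₄ ∈ m₃) (hD : G₃ ^ 2 - G₂ * G₄ ∈ n₂) :
    G₃ ^ 2 - G₂ * G₄ ∈ n₂ ^ 2 ↔ quad G₂ G₃ G₄ ∈ m₃ ^ 2 ∨ G₂ ∈ n₂ ∧ G₃ ∈ n₂ ∧ G₄ ∈ n₂ := by
  have h4 : G₄ ∈ n₂ := by
    rw [mem_iff] at hQ ⊢
    simpa [quad, constantCoeff_rename] using hQ
  have h3 : G₃ ∈ n₂ := by
    rw [mem_iff] at hD h4 ⊢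
    simpa [h4] using hD
  constructor
  · intro h
    by_cases h2' : G₂ ∈ n₂
    · exact Or.inr ⟨h2', h3, h4⟩
    · refine Or.inl ((quad_mem_sq_iff h2 _ _ _).2 ⟨h3, ?_⟩)
      have hc : constantCoeff G₂ ≠ 0 := fun hc => h2' ((mem_iff G₂).2 hc)
      have hd : G₂ - C (constantCoeff G₂) ∈ n₂ := by rw [mem_iff]; simp
      have h24 : G₂ * G₄ ∈ n₂ ^ 2 := by
        have := sub_mem (Ideal.pow_mem_pow h3 2) h
        simpa using this
      have : C (constantCoeff G₂) * G₄ ∈ n₂ ^ 2 := by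
        have := sub_mem h24 (show (G₂ - C (constantCoeff G₂)) * G₄ ∈ n₂ ^ 2 by
          rw [pow_two]; exact Ideal.mul_mem_mul hd h4)
        convert this using 1
        ring
      exact (Ideal.unit_mul_mem_iff_mem _ ((Ne.isUnit hc).map C)).1 this
  · rintro (h | ⟨h2', -, -⟩)
    · obtain ⟨h3, h4⟩ := (quad_mem_sq_iff h2 _ _ _).1 h
      exact discr_mem_sq h3 h4
    · refine sub_mem (Ideal.pow_mem_pow h3 2) ?_
      rw [pow_two]; exact Ideal.mul_mem_mul h2' h4

end Groth.Agent.Prym5.QuadDiscr
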